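import Mathlib
import Cfsg.Agent.BLK.CK.Poly

/-! The subspaces attached to the big orbit on independent triples. -/

set_option autoImplicit false

open MulAction Finset

namespace CL.CK

section defs

variable {V W : Type*} [AddCommGroup V] [AddCommGroup W]

/-- annihilator of the small planes through a line -/
def th (β : V →+ W →+ ZMod 2) (B : V → V → V → Prop) (x y : V) : AddSubgroup W :=
  perp β {c | ¬ B x y c}

/-- union of the small planes through a line -/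
def wp (β : V →+ W →+ ZMod 2) (B : V → V → V → Prop) (x y : V) : AddSubgroup V :=
  perp β.flip (th β B x y)

/-- annihilator of the lines through `x` whose small planes lie in the hyperplane `w` -/
def om (β : V →+ W →+ ZMod 2) (B : V → V → V → Prop) (x : V) (w : W) : AddSubgroup W :=
  perp β (insert x {y | w ∈ th β B x y})

/-- union of the lines through `x` whose small planes lie in the hyperplane `w` -/
def rho (β : V →+ W →+ ZMod 2) (B : V → V → V → Prop) (x : V) (w : W) : AddSubgroup V :=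
  perp β.flip (om β B x w)

end defs

variable {H V W : Type*} [Group H] [AddCommGroup V] [AddCommGroup W] [DistribMulAction H V]
  [DistribMulAction H W] {β : V →+ W →+ ZMod 2} {B : V → V → V → Prop}

omit [DistribMulAction H W] in
theorem Big.smul_iff (G : Big H β B) (h : H) {x y c : V} : B (h • x) (h • y) (h • c) ↔ B x y c :=
  ⟨fun a => (G.rel a).2 ⟨h⁻¹, inv_smul_smul _ _, inv_smul_smul _ _, inv_smul_smul _ _⟩,
    fun a => (G.rel a).2 ⟨h, rfl, rfl, rfl⟩⟩

omit [DistribMulAction H W] in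
theorem Big.th_left (G : Big H β B) {x y : V} {w : W} (h : w ∈ th β B x y) : β x w = 0 :=
  h x fun a => (G.ind a).2.2.2 (left_mem_ln _ _)

omit [DistribMulAction H W] in
theorem Big.th_right (G : Big H β B) {x y : V} {w : W} (h : w ∈ th β B x y) : β y w = 0 :=
  h y fun a => (G.ind a).2.2.2 (right_mem_ln _ _)

omit [DistribMulAction H W] in
theorem Big.th_ind (G : Big H β B) (Q : Perf β) {x y : V} {w : W} (h : w ∈ th β B x y)
    (hw : w ≠ 0) : x ≠ 0 ∧ y ≠ 0 ∧ y ≠ x := by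
  by_contra hh
  exact hw (Q.sepR w fun v => h v fun a => hh ⟨(G.ind a).1, (G.ind a).2.1, (G.ind a).2.2.1⟩)

theorem Big.smul_mem_th (G : Big H β B) (P : Pair H β) (h : H) {x y : V} {w : W} :
    h • w ∈ th β B (h • x) (h • y) ↔ w ∈ th β B x y :=
  ⟨fun a c hc => by rw [← P.inv h]; exact a _ fun b => hc ((G.smul_iff h).1 b), fun a c hc => by
    rw [← smul_inv_smul h c, P.inv]
    exact a _ fun b => hc (by rw [← smul_inv_smul h c]; exact (G.smul_iff h).2 b)⟩

theorem Big.smul_mem_om (G : Big H β B) (P : Pair H β) (h : H) {x : V} {w u : W} :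
    h • u ∈ om β B (h • x) (h • w) ↔ u ∈ om β B x w := by
  simp only [om, mem_perp, Set.forall_mem_insert, P.inv, Set.mem_ofPred_eq]
  refine and_congr_right fun _ => ⟨fun a y hy => ?_, fun a y hy => ?_⟩
  · rw [← P.inv h]; exact a _ ((G.smul_mem_th P h).2 hy)
  · rw [← smul_inv_smul h y] at hy ⊢
    rw [P.inv]; exact a _ ((G.smul_mem_th P h).1 hy)

omit [DistribMulAction H W] in
theorem Big.exists_th (G : Big H β B) {x y : V} (hx : x ≠ 0) (hy : y ≠ 0) (hyx : y ≠ x) :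
    ∃ w ∈ th β B x y, w ≠ 0 := by
  obtain ⟨w, hw, -, -, h⟩ := G.sub x y hx hy hyx
  exact ⟨w, fun c hc => (z2 _).resolve_right fun e => hc (h c e), hw⟩

theorem Big.mem_wp (G : Big H β B) (P : Pair H β) {x y c : V} (hx : x ≠ 0) (hy : y ≠ 0)
    (hyx : y ≠ x) : c ∈ wp β B x y ↔ ¬ B x y c := by
  refine ⟨fun h hc => ?_, fun h w hw => hw c h⟩
  obtain ⟨w, hw, -, -, h'⟩ := G.sub x y hx hy hyx
  obtain ⟨c₁, hc₁⟩ := P.toPerf.flip.exists_one hw
  obtain ⟨g, e1, e2, rfl⟩ := (G.rel (h' c₁ hc₁)).1 hc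
  have : g • w ∈ th β B x y := by
    rw [← e1, ← e2, G.smul_mem_th P]
    exact fun c hc => (z2 _).resolve_right fun e => hc (h' c e)
  have := h _ this
  rw [AddMonoidHom.flip_apply, P.inv, show β c₁ w = 1 from hc₁] at this
  exact one_ne_zero this

theorem left_mem_rho (x : V) (w : W) : x ∈ rho β B x w := fun _ hu => hu x (Set.mem_insert _ _)

theorem mem_rho_of {x y : V} {w : W} (h : w ∈ th β B x y) : y ∈ rho β B x w :=
  fun _ hu => hu y (Set.mem_insert_of_mem _ h)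

theorem om_left {x : V} {w u : W} (h : u ∈ om β B x w) : β x u = 0 := h x (Set.mem_insert _ _)

omit [DistribMulAction H W] in
theorem Big.self_mem_om (G : Big H β B) {x : V} {w : W} (h : β x w = 0) : w ∈ om β B x w := by
  rintro y (rfl | hy)
  exacts [h, G.th_right hy]

variable [Fintype V] [Fintype W] [Finite H]

/-- the data on one side of the pairing -/
structure Side (H : Type*) [Group H] [DistribMulAction H V] [DistribMulAction H W]
    (β : V →+ W →+ ZMod 2) (n : ℕ) (B : V → V → V → Prop) (e : ℕ) : Prop where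
  P : Pair H β
  T : Two H V
  hn : Nat.card V = 2 ^ n
  h3 : 3 ≤ n
  G : Big H β B
  dim : ∀ x y, x ≠ 0 → y ≠ 0 → y ≠ x → Nat.card (th β B x y) = 2 ^ e

theorem Pair.exists_side (P : Pair H β) (T : Two H V) {n : ℕ} (hn : Nat.card V = 2 ^ n)
    (h3 : 3 ≤ n) : ∃ B e, Side H β n B e := by
  obtain ⟨B, G⟩ := P.exists_big T hn h3
  by_cases h : ∃ x y : V, x ≠ 0 ∧ y ≠ 0 ∧ y ≠ x
  · obtain ⟨x, y, hx, hy, hyx⟩ := h
    obtain ⟨e, -, he⟩ := exists_card_eq (P.toPerf.card_eq ▸ hn) (th β B x y)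
    refine ⟨B, e, P, T, hn, h3, G, fun x' y' hx' hy' hyx' => ?_⟩
    obtain ⟨g, rfl, rfl⟩ := T.pair hx hy hyx hx' hy' hyx'
    rw [← he, ← SetLike.coe_sort_coe, Nat.card_coe_set_eq, ← SetLike.coe_sort_coe,
      Nat.card_coe_set_eq]
    exact (ncard_smul_eq g fun w => G.smul_mem_th P g).symm
  · exact ⟨B, 0, P, T, hn, h3, G, fun x y a b c => absurd ⟨x, y, a, b, c⟩ h⟩

namespace Side

variable {n e : ℕ} (D : Side H β n B e)
include D

omit [Finite H] in
theorem hn' : Nat.card W = 2 ^ n := D.P.toPerf.card_eq ▸ D.hn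

theorem swap12 {x y c : V} (h : B x y c) : B y x c := (D.G.rel h).2 (D.P.rel12 D.T (D.G.ind h))

theorem swap23 {x y c : V} (h : B x y c) : B x c y := (D.G.rel h).2 (D.P.rel23 D.T (D.G.ind h))

omit [Fintype V] [Fintype W] [Finite H] in
theorem exists_ind [Finite V] {x : V} (hx : x ≠ 0) : ∃ y, y ≠ 0 ∧ y ≠ x := by
  obtain ⟨y, hy⟩ := exists_notMem (M := ln x x) (by
    rw [D.P.toPerf.card_ln_self hx, D.hn]
    exact Nat.pow_lt_pow_right one_lt_two (by have := D.h3; omega))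
  exact ⟨y, by simpa [D.P.toPerf.mem_ln_self] using hy⟩

omit [Fintype V] [Fintype W] [Finite H] in
theorem exists_ne_zero [Finite V] : ∃ x : V, x ≠ 0 := by
  simpa using exists_notMem (M := (⊥ : AddSubgroup V)) (by
    rw [AddSubgroup.card_bot, D.hn]
    exact Nat.one_lt_two_pow (by have := D.h3; omega))

omit [Fintype W] [Finite H] in
theorem pos : 1 ≤ e := by
  obtain ⟨x, hx⟩ := D.exists_ne_zero
  obtain ⟨y, hy, hyx⟩ := D.exists_ind hx
  obtain ⟨w, hw, h0⟩ := D.G.exists_th hx hy hyx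
  by_contra hh
  have := D.dim x y hx hy hyx
  rw [show e = 0 by omega, pow_zero, AddSubgroup.card_eq_one] at this
  exact h0 (by simpa [this] using hw)

omit [Finite H] in
theorem card_wp {x y : V} (hx : x ≠ 0) (hy : y ≠ 0) (hyx : y ≠ x) :
    Nat.card (wp β B x y) = 2 ^ (n - e) := D.P.toPerf.flip.card_perp D.hn' (D.dim x y hx hy hyx)

omit [Finite H] in
theorem le_dim : e ≤ n := by
  obtain ⟨x, hx⟩ := D.exists_ne_zero
  obtain ⟨y, hy, hyx⟩ := D.exists_ind hx
  obtain ⟨k, hk, h⟩ := exists_card_eq D.hn' (th β B x y)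
  rw [D.dim x y hx hy hyx] at h
  rwa [Nat.pow_right_injective le_rfl h]

open Classical in
omit [Finite H] in
theorem polyLt (x y : V) : PolyLt (e + 1) fun c => if B x y c then (1 : ZMod 2) else 0 := by
  by_cases h : x ≠ 0 ∧ y ≠ 0 ∧ y ≠ x
  · refine D.P.toPerf.polyLt _ (wp β B x y) ?_ fun u hu v => ?_
    · have := (wp β B x y).card_mul_index
      rw [D.card_wp h.1 h.2.1 h.2.2, D.hn, ← Nat.pow_sub_mul_pow 2 D.le_dim] at this
      rw [Nat.eq_of_mul_eq_mul_left (by positivity) this]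
      exact Nat.pow_lt_pow_right one_lt_two (by omega)
    · have := (wp β B x y).add_mem_cancel_right hu (y := v)
      simp only [D.G.mem_wp D.P h.1 h.2.1 h.2.2, not_iff_not] at this
      simp only [this]
  · exact PolyLt.zero _ fun c => if_neg fun a => h ⟨(D.G.ind a).1, (D.G.ind a).2.1, (D.G.ind a).2.2.1⟩

/-- the degree bound coming from a Singer cycle -/
theorem le_three (C : Subgroup H) (hC : ∀ a ∈ C, ∀ b ∈ C, a * b = b * a)
    (ht : ∀ x x' : V, x ≠ 0 → x' ≠ 0 → ∃ k ∈ C, k • x = x') : n ≤ 3 * e := by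
  classical
  by_contra hh
  obtain ⟨x, hx⟩ := D.exists_ne_zero
  obtain ⟨y, hy, hyx⟩ := D.exists_ind hx
  obtain ⟨w, hw, -, -, h⟩ := D.G.sub x y hx hy hyx
  obtain ⟨c, hc⟩ := D.P.toPerf.flip.exists_one hw
  have hB := h c hc
  obtain ⟨s, hs, rfl⟩ := ht x y hx hy
  obtain ⟨t, ht', rfl⟩ := ht x c hx (by rintro rfl; simp at hc)
  set F : V → V → V → ZMod 2 := fun a b c => if B a b c then 1 else 0 with hF
  have s12 : ∀ a b c, F a b c = F b a c := fun a b c => if_congr ⟨D.swap12, D.swap12⟩ rfl rfl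
  have s23 : ∀ a b c, F a b c = F a c b := fun a b c => if_congr ⟨D.swap23, D.swap23⟩ rfl rfl
  have p3 : ∀ (g : H) a b, PolyLt (e + 1) fun c => F a b (g • c) := fun g a b => by
    simpa using (D.polyLt a b).comp (DistribSMul.toAddMonoidHom V g) 0
  have p := PolyLt.diag (3 * e + 1) (e + 1) (2 * e + 1) (G := fun a b => F a (s • b) (t • b))
    (by omega) (fun (b : V) => by
      simpa only [one_smul, s12 _ (s • b), s23 (s • b) _ (t • b)] using p3 1 (s • b) (t • b))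
    fun a => PolyLt.diag (2 * e + 1) (e + 1) (e + 1) (G := fun b c => F a (s • b) (t • c)) (by omega)
      (fun (c : V) => by simpa only [s23 a _ (t • c)] using p3 s a (t • c)) fun b => p3 t a (s • b)
  have z := D.P.toPerf.sum_eq_zero _ ⊤ (by
    rw [AddSubgroup.card_top, D.hn]; exact Nat.pow_le_pow_right two_pos (by omega)) p
  have val : ∀ v, F v (s • v) (t • v) = 1 + if v = 0 then 1 else 0 := by
    intro v
    split_ifs with hv
    · exact (if_neg fun a => (D.G.ind a).1 hv).trans rfl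
    · obtain ⟨k, hk, rfl⟩ := ht x v hx hv
      rw [← mul_smul, hC s hs k hk, ← mul_smul t, hC t ht' k hk, mul_smul, mul_smul, add_zero]
      exact if_pos ((D.G.smul_iff k).2 hB)
  simp only [val, AddSubgroup.mem_top, filter_true, sum_add_distrib, sum_const, card_univ,
    sum_ite_eq', mem_univ, if_true, ← Nat.card_eq_fintype_card, D.hn, nsmul_eq_mul, mul_one] at z
  rw [Nat.cast_pow, show ((2 : ℕ) : ZMod 2) = 0 from rfl, zero_pow (by have := D.h3; omega)] at z
  exact absurd z (by decide)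

omit [Finite H] in
theorem thT {x y : V} {w w' : W} (hw : w ∈ th β B x y) (h0 : w ≠ 0) (hw' : w' ∈ th β B x y)
    (h0' : w' ≠ 0) : ∃ h : H, h • x = x ∧ h • y = y ∧ h • w = w' := by
  obtain ⟨k, hk, e⟩ := D.P.fuse (stabilizer H x ⊓ stabilizer H y) ⊥ {c | ¬ B x y c}
    (fun v hv v' hv' _ => by
      obtain ⟨g, e1, e2, e3⟩ := (D.G.rel (not_not.1 hv)).1 (not_not.1 hv')
      exact ⟨g, ⟨e1, e2⟩, e3⟩) h0 h0' fun v hv => (hw v hv).trans (hw' v hv).symm
  exact ⟨k, hk.1, hk.2, e⟩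

omit [Finite H] in
theorem exists_line {x : V} {w : W} (hx : x ≠ 0) (hw : w ≠ 0) (h : β x w = 0) :
    ∃ y, w ∈ th β B x y := by
  obtain ⟨y, hy, hyx⟩ := D.exists_ind hx
  obtain ⟨u, hu, h0⟩ := D.G.exists_th hx hy hyx
  obtain ⟨g, e1, rfl⟩ := D.P.flagT D.T hx h0 hw ((D.G.th_left hu).trans h.symm)
  exact ⟨g • y, by rw [← e1, D.G.smul_mem_th D.P]; exact hu⟩

omit [Finite H] in
theorem lineT {x y y' : V} {w : W} (hw : w ∈ th β B x y) (hw' : w ∈ th β B x y') (h0 : w ≠ 0) :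
    ∃ h : H, h • x = x ∧ h • w = w ∧ h • y = y' := by
  obtain ⟨hx, hy, hyx⟩ := D.G.th_ind D.P.toPerf hw h0
  obtain ⟨-, hy', hyx'⟩ := D.G.th_ind D.P.toPerf hw' h0
  obtain ⟨g, e1, rfl⟩ := D.T.t2 x y y' hx hy hyx hy' hyx'
  obtain ⟨k, e2, e3, e4⟩ := D.thT (w := g • w) (by rw [← e1, D.G.smul_mem_th D.P]; exact hw)
    (smul_ne h0) hw' h0
  exact ⟨k * g, by rw [mul_smul, e1, e2], by rw [mul_smul, e4], by rw [mul_smul, e3]⟩

theorem fibT {x y : V} {w u u' : W} (hw : w ∈ th β B x y) (h0 : w ≠ 0) (h1 : β x u = 0)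
    (h1' : β x u' = 0) (h2 : β y u = 1) (h2' : β y u' = 1) :
    ∃ h : H, h • x = x ∧ h • y = y ∧ h • w = w ∧ h • u = u' := by
  obtain ⟨hx, hy, hyx⟩ := D.G.th_ind D.P.toPerf hw h0
  have o1 : orb (stabilizer H x ⊓ stabilizer H y) w = (th β B x y : Set W) \ {0} := by
    ext v
    refine ⟨fun ⟨k, hk, e⟩ => e ▸ ⟨?_, smul_ne h0⟩, fun hv => ?_⟩
    · rw [← show k • x = x from hk.1, ← show k • y = y from hk.2]
      exact (D.G.smul_mem_th D.P k).2 hw
    · obtain ⟨k, e1, e2, e3⟩ := D.thT hw h0 hv.1 hv.2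
      exact ⟨k, ⟨e1, e2⟩, e3⟩
  have o2 : orb (stabilizer H x ⊓ stabilizer H y) u = {v | v + u ∈ perp β (ln x y)} := by
    ext v
    simp only [Set.mem_ofPred_eq, mem_perp_ln, map_add, h1, h2, add_zero]
    refine ⟨fun ⟨k, hk, e⟩ => e ▸ ⟨by rw [D.P.inv_right hk.1, h1],
      by rw [D.P.inv_right hk.2, h2]; rfl⟩, fun hv => ?_⟩
    obtain ⟨k, e1, e2, e3⟩ := D.P.fibT_aux D.T hx h1 hv.1 h2
      (z2_ne.1 fun e => by rw [e] at hv; exact absurd hv.2 (by decide))
    exact ⟨k, ⟨e1, e2⟩, e3⟩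
  obtain ⟨k, e1, e2, rfl⟩ := D.P.fibT_aux D.T hx h1 h1' h2 h2'
  obtain ⟨m, hm, e3, e4⟩ := exists_fix_of_coprime (K := stabilizer H x ⊓ stabilizer H y) (a := u)
    (c := w) (by
      obtain ⟨j, -, hj⟩ := exists_card_eq D.hn' (perp β (ln x y))
      rw [o1, o2, ncard_coset, ncard_diff_zero, hj, D.dim x y hx hy hyx]
      refine Nat.Coprime.pow_right _ (Nat.coprime_two_right.2 ?_)
      exact Nat.Even.sub_odd Nat.one_le_two_pow
        ((Nat.even_pow' (by have := D.pos; omega)).2 even_two) odd_one) ⟨e1, e2⟩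
  exact ⟨m, hm.1, hm.2, e3, e4⟩

theorem omT {x : V} {w u u' : W} (h0 : w ≠ 0) (h1 : β x u = 0) (h1' : β x u' = 0)
    (h2 : u ∉ om β B x w) (h2' : u' ∉ om β B x w) : ∃ h : H, h • x = x ∧ h • w = w ∧ h • u = u' := by
  have key : ∀ {u}, β x u = 0 → u ∉ om β B x w → ∃ y, w ∈ th β B x y ∧ β y u = 1 := by
    intro u h1 h2
    by_contra hh
    push Not at hh
    refine h2 ?_
    rintro y (rfl | hy)
    exacts [h1, (z2 _).resolve_right (hh y hy)]
  obtain ⟨y, hy, a⟩ := key h1 h2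
  obtain ⟨y', hy', a'⟩ := key h1' h2'
  obtain ⟨g, e1, e2, rfl⟩ := D.lineT hy hy' h0
  obtain ⟨k, e3, -, e4, e5⟩ := D.fibT hy' h0 (u := g • u) (by rw [D.P.inv_right e1, h1]) h1'
    (by rw [D.P.inv, a]) a'
  exact ⟨k * g, by rw [mul_smul, e1, e3], by rw [mul_smul, e2, e4], by rw [mul_smul, e5]⟩

theorem mem_rho {x v : V} {w : W} (hx : x ≠ 0) (hw : w ≠ 0) (h : β x w = 0) :
    w ∈ th β B x v ↔ v ∈ rho β B x w ∧ v ∉ ln x x := by
  have nl : ∀ {y}, w ∈ th β B x y → y ∉ ln x x := fun hy => by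
    have := D.G.th_ind D.P.toPerf hy hw
    simp [D.P.toPerf.mem_ln_self, this]
  refine ⟨fun a => ⟨mem_rho_of a, nl a⟩, fun a => ?_⟩
  obtain ⟨y, hy⟩ := D.exists_line hx hw h
  obtain ⟨k, hk, rfl⟩ := D.P.flip.fuse (stabilizer H x ⊓ stabilizer H w) (ln x x) (om β B x w)
    (fun u hu u' hu' e => by
      have e : β x u = β x u' := e x (left_mem_ln _ _)
      rcases z2 (β x u) with b | b
      · obtain ⟨k, e1, e2, e3⟩ := D.omT hw b (e ▸ b) hu hu'
        exact ⟨k, ⟨e1, e2⟩, e3⟩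
      · obtain ⟨k, e1, e2, e3⟩ := D.P.flip.antiT (D.P.two_dual D.T) hw h b (e ▸ b :)
        exact ⟨k, ⟨e2, e1⟩, e3⟩) (nl hy) a.2
    fun u hu => (mem_rho_of hy u hu).trans (a.1 u hu).symm
  rw [← show k • x = x from hk.1, ← show k • w = w from hk.2]
  exact (D.G.smul_mem_th D.P k).2 hy

theorem orb_line {x y : V} {w : W} (hy : w ∈ th β B x y) (hw : w ≠ 0) :
    orb (stabilizer H x ⊓ stabilizer H w) y = (rho β B x w : Set V) \ ln x x := by
  ext v
  refine Iff.trans ?_ (D.mem_rho (D.G.th_ind D.P.toPerf hy hw).1 hw (D.G.th_left hy))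
  refine ⟨fun ⟨k, hk, e⟩ => ?_, fun hv => ?_⟩
  · rw [← e, ← show k • x = x from hk.1, ← show k • w = w from hk.2]
    exact (D.G.smul_mem_th D.P k).2 hy
  · obtain ⟨k, e1, e2, e3⟩ := D.lineT hy hv hw
    exact ⟨k, ⟨e1, e2⟩, e3⟩

theorem card_rho {x : V} {w : W} (hx : x ≠ 0) (hw : w ≠ 0) (h : β x w = 0) :
    Nat.card (rho β B x w) = 2 ^ (e + 1) := by
  have Q := D.P.toPerf
  obtain ⟨y, hy⟩ := D.exists_line hx hw h
  obtain ⟨-, hy0, hyx⟩ := D.G.th_ind Q hy hw
  have o1 : orb (stabilizer H x) y = ((⊤ : AddSubgroup V) : Set V) \ ln x x := by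
    ext v
    simp only [Set.mem_sdiff, SetLike.mem_coe, AddSubgroup.mem_top, true_and, Q.mem_ln_self, not_or]
    exact ⟨fun ⟨k, hk, e⟩ => e ▸ ⟨smul_ne hy0, fun e => hyx (MulAction.injective k
      (e.trans (show k • x = x from hk).symm))⟩, fun hv => D.T.t2 x y v hx hy0 hyx hv.1 hv.2⟩
  have o2 : orb (stabilizer H x) w = (perp β (ln x x) : Set W) \ {0} := by
    ext u
    simp only [Set.mem_sdiff, SetLike.mem_coe, mem_perp_ln, and_self, Set.mem_singleton_iff]
    exact ⟨fun ⟨k, hk, e⟩ => e ▸ ⟨by rw [D.P.inv_right hk, h], smul_ne hw⟩,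
      fun hu => D.P.flagT D.T hx hw hu.2 (h.trans hu.1.symm)⟩
  have := double_count (stabilizer H x) (fun (y : V) (u : W) => u ∈ th β B x y)
    (fun k hk a c => by
      conv_lhs => rw [← show k • x = x from hk]
      exact D.G.smul_mem_th D.P k) y w
  have o3 : {d ∈ orb (stabilizer H x) w | d ∈ th β B x y} = (th β B x y : Set W) \ {0} := by
    ext u
    simp only [o2, Set.mem_sdiff, SetLike.mem_coe, mem_perp_ln, and_self, Set.mem_ofPred_eq]
    exact ⟨fun a => ⟨a.2, a.1.2⟩, fun a => ⟨⟨D.G.th_left a.1, a.2⟩, a.1⟩⟩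
  have o4 : {b ∈ orb (stabilizer H x) y | w ∈ th β B x b} = (rho β B x w : Set V) \ ln x x := by
    ext v
    simp only [o1, Set.mem_sdiff, SetLike.mem_coe, Set.mem_ofPred_eq, D.mem_rho hx hw h]
    simp only [AddSubgroup.mem_top, true_and]
    tauto
  have le : ln x x ≤ rho β B x w := ln_le (left_mem_rho _ _) (left_mem_rho _ _)
  rw [o3, o4, o1, o2, ncard_diff le_top, ncard_diff le, ncard_diff_zero, ncard_diff_zero,
    AddSubgroup.card_top, D.hn, Q.card_ln_self hx, D.dim x y hx hy0 hyx,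
    Q.card_perp D.hn (Q.card_ln_self hx), ← Nat.pow_sub_mul_pow 2 (by have := D.h3; omega : 1 ≤ n),
    ← Nat.sub_one_mul, mul_assoc] at this
  have h1 := Nat.eq_of_mul_eq_mul_left (Nat.sub_pos_of_lt
    (Nat.one_lt_two_pow (by have := D.h3; omega))) this
  have h2 := AddSubgroup.card_le_of_le le
  rw [Q.card_ln_self hx] at h2
  have : 0 < 2 ^ e := by positivity
  rw [pow_succ]; omega

theorem card_om {x : V} {w : W} (hx : x ≠ 0) (hw : w ≠ 0) (h : β x w = 0) :
    Nat.card (om β B x w) = 2 ^ (n - (e + 1)) := by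
  rw [← D.P.toPerf.flip.perp_perp (om β B x w)]
  exact D.P.toPerf.card_perp D.hn (D.card_rho hx hw h)

end Side

end CL.CK
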