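import Mathlib
import Cfsg.Agent.BLK.CK.Side

/-! A subgroup of `GL_n(2)`, `n` odd, doubly transitive on the non-zero vectors and containing a
Singer cycle contains a transvection. -/

set_option autoImplicit false

open MulAction Finset

namespace CL.CK

theorem two_adic {a b x y : ℕ} (hx : Odd x) (hy : Odd y) (h : 2 ^ a * x = 2 ^ b * y) :
    a = b ∧ x = y := by
  have key : ∀ {a b x y : ℕ}, Odd x → 2 ^ a * x = 2 ^ b * y → b ≤ a := fun {a b x y} hx h =>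
    (Nat.pow_dvd_pow_iff_le_right one_lt_two).1
      ((Nat.Coprime.pow_left b (Nat.coprime_two_left.2 hx)).dvd_of_dvd_mul_right ⟨y, h⟩)
  obtain rfl := le_antisymm (key hy h.symm) (key hx h)
  exact ⟨rfl, Nat.eq_of_mul_eq_mul_left (by positivity) h⟩

theorem odd_pow_sub {a : ℕ} (h : 1 ≤ a) : Odd (2 ^ a - 1) :=
  Nat.Even.sub_odd Nat.one_le_two_pow ((Nat.even_pow' (by omega)).2 even_two) odd_one

theorem pow_sub_pow {a b : ℕ} (h : b ≤ a) : 2 ^ a - 2 ^ b = 2 ^ b * (2 ^ (a - b) - 1) := by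
  rw [Nat.mul_sub_one, ← pow_add, Nat.add_sub_cancel' h]

theorem arith {n e e' c k : ℕ} (h2 : 2 ≤ e) (he : e ≤ e') (hn : e' + 1 ≤ n) (hc : c < n - e)
    (hk : 1 ≤ k) (h : (2 ^ (e + 1) - 2 ^ 1) * (2 ^ (n - e) - 2 ^ c) =
      (2 ^ (n - 1) - 2 ^ (n - (e' + 1))) * (2 ^ k - 2 ^ 1)) : c = n - (e' + 1) ∧ e = e' := by
  rw [pow_sub_pow (by omega), pow_sub_pow hc.le, pow_sub_pow (by omega), pow_sub_pow hk,
    mul_mul_mul_comm, mul_mul_mul_comm (2 ^ (n - (e' + 1))), ← pow_add, ← pow_add] at h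
  have o1 := (odd_pow_sub (a := e + 1 - 1) (by omega)).mul (odd_pow_sub (a := n - e - c) (by omega))
  have k1 : 1 ≤ k - 1 := by
    by_contra hh
    rw [show k - 1 = 0 by omega, pow_zero, Nat.sub_self, mul_zero, mul_zero] at h
    exact mul_ne_zero (by positivity) o1.pos.ne' h
  obtain ⟨a1, a2⟩ := two_adic o1
    ((odd_pow_sub (a := n - 1 - (n - (e' + 1))) (by omega)).mul (odd_pow_sub k1)) h
  refine ⟨by omega, ?_⟩
  obtain ⟨d, rfl⟩ := Nat.exists_eq_add_of_le he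
  rw [show e + 1 - 1 = e by omega, show n - e - c = d + 1 by omega,
    show n - 1 - (n - (e + d + 1)) = e + d by omega, pow_succ, pow_add] at a2
  have hA : 2 ^ 2 ≤ 2 ^ e := Nat.pow_le_pow_right two_pos h2
  have hM := odd_pow_sub k1
  by_contra hd
  have hD : 2 ^ 1 ≤ 2 ^ d := Nat.pow_le_pow_right two_pos (by omega)
  generalize 2 ^ e = A at *
  generalize 2 ^ d = D at *
  generalize 2 ^ (k - 1) - 1 = M at *
  have : 1 ≤ A * D := by nlinarith
  zify [show 1 ≤ A by omega, show 1 ≤ D * 2 by omega, this] at a2 hA hD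
  obtain ⟨m, rfl⟩ := hM
  rcases Nat.eq_zero_or_pos m with rfl | hm
  · push_cast at a2; nlinarith
  · have hm' : (1 : ℤ) ≤ m := by exact_mod_cast hm
    push_cast at a2
    nlinarith [mul_nonneg (sub_nonneg.2 hm') (show (0 : ℤ) ≤ A * D - 1 by nlinarith)]

theorem dvd_card_of_fibers {α γ : Type*} [Finite α] (s : Set α) (f : α → γ) {m : ℕ}
    (h : ∀ a ∈ s, {b ∈ s | f b = f a}.ncard = m) : m ∣ s.ncard := by
  classical
  rw [Set.ncard_eq_toFinset_card s s.toFinite, card_eq_sum_card_image f]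
  refine dvd_sum fun c hc => ?_
  obtain ⟨a, ha, rfl⟩ := mem_image.1 hc
  rw [← h a ((Set.Finite.mem_toFinset _).1 ha), ← Set.ncard_coe_finset]
  exact dvd_of_eq (congrArg _ (by ext; simp))

variable {H V W : Type*} [Group H] [AddCommGroup V] [AddCommGroup W] [DistribMulAction H V]
  [DistribMulAction H W] {β : V →+ W →+ ZMod 2} {B : V → V → V → Prop} {B' : W → W → W → Prop}
  [Fintype V] [Fintype W] [Finite H] {n e e' : ℕ}

namespace Side

variable (D : Side H β n B e) (D' : Side H β.flip n B' e')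
include D'

theorem orb_out {x v : V} {w : W} (hx : x ≠ 0) (h1 : β v w = 0) (h2 : v ∉ om β.flip B' w x) :
    orb (stabilizer H x ⊓ stabilizer H w) v =
      (perp β.flip (ln w w) : Set V) \ om β.flip B' w x := by
  ext u
  simp only [Set.mem_sdiff, SetLike.mem_coe, mem_perp_ln, and_self]
  refine ⟨fun ⟨k, hk, a⟩ => a ▸ ⟨by rw [D'.P.inv_right hk.2]; exact h1, fun b => h2 ?_⟩, fun hu => ?_⟩
  · rw [← show k • x = x from hk.1, ← show k • w = w from hk.2] at b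
    exact (D'.G.smul_mem_om D'.P k).1 b
  · obtain ⟨k, e1, e2, e3⟩ := D'.omT hx h1 hu.1 h2 hu.2
    exact ⟨k, ⟨e2, e1⟩, e3⟩

include D

theorem exists_out (he : e ≤ e') {x y : V} {w : W} (hy : w ∈ th β B x y) (hw : w ≠ 0) :
    ∃ v ∈ wp β B x y, v ∉ om β.flip B' w x := by
  obtain ⟨hx, hy0, hyx⟩ := D.G.th_ind D.P.toPerf hy hw
  by_contra hh
  push Not at hh
  have := AddSubgroup.card_le_of_le (show wp β B x y ≤ om β.flip B' w x from hh)
  rw [D.card_wp hx hy0 hyx, D'.card_om hw hx (D.G.th_left hy),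
    Nat.pow_le_pow_iff_right one_lt_two] at this
  have h1 := AddSubgroup.card_le_of_le (ln_le (left_mem_rho (β := β.flip) (B := B') w x)
    (left_mem_rho w x))
  have h2 := AddSubgroup.card_le_card_addGroup (rho β.flip B' w x)
  rw [D'.card_rho hw hx (D.G.th_left hy), D.hn', Nat.pow_le_pow_iff_right one_lt_two] at h2
  omega

theorem dich (h2 : 2 ≤ e) (he : e ≤ e') {x y : V} {w : W} (hy : w ∈ th β B x y) (hw : w ≠ 0) :
    om β.flip B' w x ≤ wp β B x y ∧ e = e' := by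
  have Q := D.P.toPerf
  obtain ⟨hx, hy0, hyx⟩ := D.G.th_ind Q hy hw
  have hxw := D.G.th_left hy
  obtain ⟨v, hv, hv'⟩ := D.exists_out D' he hy hw
  have hvw : β v w = 0 := hv w hy
  have xS : x ∈ om β.flip B' w x := D'.G.self_mem_om hxw
  have vl : v ≠ 0 ∧ v ≠ x := ⟨fun a => hv' (a ▸ zero_mem _), fun a => hv' (a ▸ xS)⟩
  have := double_count (stabilizer H x ⊓ stabilizer H w) (fun (a b : V) => ¬ B x a b)
    (fun k hk a c => by
      conv_lhs => rw [← show k • x = x from hk.1]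
      exact not_congr (D.G.smul_iff k)) y v
  have o3 : {d ∈ orb (stabilizer H x ⊓ stabilizer H w) v | ¬ B x y d} =
      (wp β B x y : Set V) \ (wp β B x y ⊓ om β.flip B' w x : AddSubgroup V) := by
    ext u
    simp only [D'.orb_out hx hvw hv', Set.mem_sdiff, SetLike.mem_coe, mem_perp_ln, and_self,
      Set.mem_ofPred_eq, ← D.G.mem_wp D.P hx hy0 hyx, AddSubgroup.mem_inf]
    exact ⟨fun a => ⟨a.2, fun b => a.1.2 b.2⟩, fun a => ⟨⟨a.1 w hy, fun b => a.2 ⟨a.1, b⟩⟩, a.1⟩⟩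
  have o4 : {b ∈ orb (stabilizer H x ⊓ stabilizer H w) y | ¬ B x b v} =
      ((rho β B x w ⊓ wp β B x v : AddSubgroup V) : Set V) \ ln x x := by
    ext u
    simp only [D.orb_line hy hw, Set.mem_sdiff, SetLike.mem_coe, Set.mem_ofPred_eq,
      AddSubgroup.mem_inf, D.G.mem_wp D.P hx vl.1 vl.2]
    exact ⟨fun a => ⟨⟨a.1.1, fun b => a.2 (D.swap23 b)⟩, a.1.2⟩,
      fun a => ⟨⟨a.1.1, a.2⟩, fun b => a.1.2 (D.swap23 b)⟩⟩
  have x2 : x ∈ rho β B x w ⊓ wp β B x v := ⟨left_mem_rho _ _, fun u hu => D.G.th_left hu⟩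
  obtain ⟨c, -, hc⟩ := exists_card_eq D.hn (wp β B x y ⊓ om β.flip B' w x)
  obtain ⟨k, -, hk⟩ := exists_card_eq D.hn (rho β B x w ⊓ wp β B x v)
  have le : om β.flip B' w x ≤ perp β.flip (ln w w) := fun u hu =>
    mem_perp_ln.2 ⟨om_left hu, om_left hu⟩
  have cS := D'.card_om hw hx hxw
  rw [o3, o4, D.orb_line hy hw, D'.orb_out hx hvw hv', ncard_diff inf_le_left, ncard_diff le,
    ncard_diff (ln_le x2 x2), ncard_diff (ln_le (left_mem_rho _ _) (left_mem_rho _ _)), hc, hk, cS,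
    D.card_rho hx hw hxw, Q.card_ln_self hx, D.card_wp hx hy0 hyx,
    Q.flip.card_perp D.hn' (Q.flip.card_ln_self hw)] at this
  have l1 := card_lt_of_lt (lt_of_le_of_ne (inf_le_left : wp β B x y ⊓ om β.flip B' w x ≤ _)
    fun a => hv' (a.ge hv).2)
  rw [hc, D.card_wp hx hy0 hyx, Nat.pow_lt_pow_iff_right one_lt_two] at l1
  have l2 := AddSubgroup.card_le_of_le (ln_le x2 x2)
  rw [hk, Q.card_ln_self hx, Nat.pow_le_pow_iff_right one_lt_two] at l2
  have l3 := AddSubgroup.card_le_card_addGroup (rho β.flip B' w x)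
  rw [D'.card_rho hw hx hxw, D.hn', Nat.pow_le_pow_iff_right one_lt_two] at l3
  obtain ⟨a1, a2⟩ := arith h2 he l3 l1 l2 this
  refine ⟨inf_eq_right.1 (AddSubgroup.eq_of_le_of_card_ge inf_le_right ?_), a2⟩
  rw [hc, cS, a1]

theorem exists_line_out (he : e ≤ e') {x v : V} {w : W} (hx : x ≠ 0) (hw : w ≠ 0)
    (hxw : β x w = 0) (h1 : β v w = 0) (h2 : v ∉ om β.flip B' w x) :
    ∃ y, w ∈ th β B x y ∧ v ∈ wp β B x y := by
  obtain ⟨y, hy⟩ := D.exists_line hx hw hxw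
  obtain ⟨u, hu, hu'⟩ := D.exists_out D' he hy hw
  obtain ⟨k, e1, e2, rfl⟩ := D'.omT hx (hu w hy) h1 hu' h2
  have hy' : w ∈ th β B x (k • y) := by
    rw [← e1, ← e2]; exact (D.G.smul_mem_th D.P k).2 hy
  obtain ⟨-, a, b⟩ := D.G.th_ind D.P.toPerf hy hw
  obtain ⟨-, a', b'⟩ := D.G.th_ind D.P.toPerf hy' hw
  refine ⟨k • y, hy', (D.G.mem_wp D.P hx a' b').2 ?_⟩
  rw [← e2, D.G.smul_iff]
  exact (D.G.mem_wp D.P hx a b).1 hu

theorem rho_le (h3 : e + 3 ≤ n) {x : V} {w : W} (hx : x ≠ 0) (hw : w ≠ 0) (hxw : β x w = 0) :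
    rho β B x w ≤ om β.flip B' w x := by
  have Q := D.P.toPerf
  intro y hy
  by_contra hh
  have xS : x ∈ om β.flip B' w x := D'.G.self_mem_om hxw
  have hy' := (D.mem_rho hx hw hxw).2 ⟨hy, fun a => hh (ln_le xS xS a)⟩
  have := D.orb_line hy' hw
  rw [D'.orb_out hx (D.G.th_right hy') hh] at this
  have le : om β.flip B' w x ≤ perp β.flip (ln w w) := fun u hu =>
    mem_perp_ln.2 ⟨om_left hu, om_left hu⟩
  have := congrArg Set.ncard this
  rw [ncard_diff le, ncard_diff (ln_le (left_mem_rho _ _) (left_mem_rho _ _)),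
    D'.card_om hw hx hxw, D.card_rho hx hw hxw, Q.card_ln_self hx,
    Q.flip.card_perp D.hn' (Q.flip.card_ln_self hw)] at this
  have a1 : 2 ^ (e + 1) ≤ 2 ^ (n - 2) := Nat.pow_le_pow_right two_pos (by omega)
  have a2 : 2 ^ (n - (e' + 1)) ≤ 2 ^ (n - 2) :=
    Nat.pow_le_pow_right two_pos (by have := D'.pos; omega)
  have a3 : 2 ^ (n - 1) = 2 ^ (n - 2) * 2 := by rw [← pow_succ]; congr 1; omega
  have : 0 < 2 ^ (n - 2) := by positivity
  omega

end Side

namespace Side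

variable (D : Side H β n B e) (D' : Side H β.flip n B' e) (h3 : 3 ≤ e)
include D D' h3

theorem om_eq {x : V} {w u : W} (hx : x ≠ 0) (hw : w ≠ 0) (hxw : β x w = 0) (hu : u ≠ 0)
    (h : u ∈ perp β (om β.flip B' w x)) : om β.flip B' u x = om β.flip B' w x := by
  have Q := D.P.toPerf
  by_cases huw : u = w
  · rw [huw]
  have hxu : β x u = 0 := h x (D'.G.self_mem_om hxw)
  have cS := D'.card_om hw hx hxw
  have cS' := D'.card_om hu hx hxu
  have l3 := AddSubgroup.card_le_card_addGroup (rho β B x w)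
  rw [D.card_rho hx hw hxw, D.hn, Nat.pow_le_pow_iff_right one_lt_two] at l3
  have cM := Q.flip.card_perp D.hn' (Q.flip.card_ln hw hu huw)
  have ex : ∀ N : AddSubgroup V, Nat.card N ≤ 2 ^ (n - e) → ∃ v, β v w = 0 ∧ β v u = 0 ∧ v ∉ N := by
    intro N hN
    by_contra hh
    push Not at hh
    have := (AddSubgroup.card_le_of_le (show perp β.flip (ln w u) ≤ N from fun v hv =>
      hh v (mem_perp_ln.1 hv).1 (mem_perp_ln.1 hv).2)).trans hN
    rw [cM, Nat.pow_le_pow_iff_right one_lt_two] at this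
    omega
  have key : ∀ {v y}, β v u = 0 → v ∉ om β.flip B' w x → w ∈ th β B x y → v ∈ wp β B x y →
      om β.flip B' u x ≤ wp β B x y := by
    intro v y h1 h2 hy hv
    obtain ⟨-, a, b⟩ := D.G.th_ind Q hy hw
    refine (D.dich D' (by omega) le_rfl ?_ hu).1
    have le := (D.dich D' (by omega) le_rfl hy hw).1
    have lt : om β.flip B' w x < wp β B x y ⊓ perp β.flip (ln u u) :=
      lt_of_le_of_ne (le_inf le fun z hz => mem_perp_ln.2 ⟨h z hz, h z hz⟩)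
        fun c => h2 (c.ge ⟨hv, mem_perp_ln.2 ⟨h1, h1⟩⟩)
    obtain ⟨j, -, hj⟩ := exists_card_eq D.hn (wp β B x y ⊓ perp β.flip (ln u u))
    have l1 := card_lt_of_lt lt
    rw [cS, hj, Nat.pow_lt_pow_iff_right one_lt_two] at l1
    have := AddSubgroup.eq_of_le_of_card_ge
      (inf_le_left : wp β B x y ⊓ perp β.flip (ln u u) ≤ _) (by
        rw [hj, D.card_wp hx a b]; exact Nat.pow_le_pow_right two_pos (by omega))
    exact fun c hc => (mem_perp_ln.1 (this.ge ((D.G.mem_wp D.P hx a b).2 hc)).2).1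
  obtain ⟨v₁, a1, b1, c1⟩ := ex _ (cS.trans_le (Nat.pow_le_pow_right two_pos (by omega)))
  obtain ⟨y₁, hy₁, hv₁⟩ := D.exists_line_out D' le_rfl hx hw hxw a1 c1
  obtain ⟨-, a, b⟩ := D.G.th_ind Q hy₁ hw
  have le₁ := (D.dich D' (by omega) le_rfl hy₁ hw).1
  obtain ⟨v₂, a2, b2, c2⟩ := ex _ (D.card_wp hx a b).le
  obtain ⟨y₂, hy₂, hv₂⟩ := D.exists_line_out D' le_rfl hx hw hxw a2 fun c => c2 (le₁ c)
  obtain ⟨-, a', b'⟩ := D.G.th_ind Q hy₂ hw
  have le₂ := (D.dich D' (by omega) le_rfl hy₂ hw).1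
  obtain ⟨j, -, hj⟩ := exists_card_eq D.hn (wp β B x y₁ ⊓ wp β B x y₂)
  have l1 := card_lt_of_lt (lt_of_le_of_ne (inf_le_right : wp β B x y₁ ⊓ wp β B x y₂ ≤ _)
    fun c => c2 (c.ge hv₂).1)
  rw [hj, D.card_wp hx a' b', Nat.pow_lt_pow_iff_right one_lt_two] at l1
  have l2 : Nat.card (wp β B x y₁ ⊓ wp β B x y₂ : AddSubgroup V) ≤ 2 ^ (n - (e + 1)) := by
    rw [hj]; exact Nat.pow_le_pow_right two_pos (by omega)
  exact (AddSubgroup.eq_of_le_of_card_ge
    (le_inf (key b1 c1 hy₁ hv₁) (key b2 (fun c => c2 (le₁ c)) hy₂ hv₂)) (cS' ▸ l2)).trans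
    (AddSubgroup.eq_of_le_of_card_ge (le_inf le₁ le₂) (cS ▸ l2)).symm

theorem dim_eq (h : n ≤ 3 * e) (h' : 2 * e + 2 ≤ n) : n = 2 * e + 3 := by
  have Q := D.P.toPerf
  obtain ⟨x, hx⟩ := D.exists_ne_zero
  have := dvd_card_of_fibers ((perp β (ln x x) : Set W) \ {0}) (fun w => om β.flip B' w x)
    (m := 2 ^ (e + 1) - 1) fun w hw => by
      have hxw := (mem_perp_ln.1 hw.1).1
      rw [← D'.card_rho hw.2 hx hxw, ← ncard_diff_zero]
      congr 1
      ext u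
      simp only [Set.mem_sdiff, SetLike.mem_coe, mem_perp_ln, and_self, Set.mem_ofPred_eq,
        Set.mem_singleton_iff]
      exact ⟨fun a => ⟨fun z hz => om_left (β := β.flip) (a.2.ge hz), a.1.2⟩,
        fun a => ⟨⟨a.1 x (D'.G.self_mem_om hxw), a.2⟩, D.om_eq D' h3 hx hw.2 hxw a.2 a.1⟩⟩
  rw [ncard_diff_zero, Q.card_perp D.hn (Q.card_ln_self hx)] at this
  have h1 := Nat.gcd_eq_left this
  rw [Nat.pow_sub_one_gcd_pow_sub_one] at h1
  have h2 : (e + 1).gcd (n - 1) = e + 1 := Nat.pow_right_injective le_rfl (by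
    have : 0 < 2 ^ (e + 1).gcd (n - 1) := by positivity
    have : 0 < 2 ^ (e + 1) := by positivity
    simp only; omega)
  obtain ⟨k, hk⟩ := Nat.gcd_eq_left_iff_dvd.1 h2
  rcases k with _ | _ | _ | k
  · omega
  · omega
  · omega
  · nlinarith [Nat.sub_add_cancel (show 1 ≤ n by omega)]

theorem false_of_dim (hn : n = 2 * e + 3) : False := by
  classical
  have Q := D.P.toPerf
  let Bl : V → V → AddSubgroup V → Prop := fun x y N =>
    ∃ w, w ≠ 0 ∧ w ∈ th β B x y ∧ N = om β.flip B' w x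
  have ex : ∀ x y, x ≠ 0 → y ≠ 0 → y ≠ x → ∃ N, Bl x y N := fun x y a b c => by
    obtain ⟨w, hw, h0⟩ := D.G.exists_th a b c
    exact ⟨_, w, h0, hw, rfl⟩
  have uq : ∀ {x y N N'}, Bl x y N → Bl x y N' → N = N' := by
    rintro x y _ _ ⟨w, h0, hw, rfl⟩ ⟨u, h0', hu, rfl⟩
    exact (D.om_eq D' h3 (D.G.th_ind Q hw h0).1 h0 (D.G.th_left hw) h0'
      fun v hv => (D.dich D' (by omega) le_rfl hw h0).1 hv u hu).symm
  have mem : ∀ {x y N}, Bl x y N → x ∈ N ∧ y ∈ N := by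
    rintro x y _ ⟨w, h0, hw, rfl⟩
    exact ⟨D'.G.self_mem_om (D.G.th_left hw),
      D.rho_le D' (by omega) (D.G.th_ind Q hw h0).1 h0 (D.G.th_left hw) (mem_rho_of hw)⟩
  have cd : ∀ {x y N}, Bl x y N → Nat.card N = 2 ^ (e + 2) := by
    rintro x y _ ⟨w, h0, hw, rfl⟩
    rw [D'.card_om h0 (D.G.th_ind Q hw h0).1 (D.G.th_left hw)]
    congr 1; omega
  have t2 : ∀ {x y y' N}, Bl x y N → y' ∈ N → y' ≠ 0 → y' ≠ x → Bl x y' N := by
    rintro x y y' _ ⟨w, h0, hw, rfl⟩ hy' a b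
    have hx := (D.G.th_ind Q hw h0).1
    obtain ⟨u, hu, h0'⟩ := D.G.exists_th hx a b
    refine ⟨u, h0', hu, ?_⟩
    have m := mem ⟨u, h0', hu, rfl⟩
    by_contra hne
    have hxw := D.G.th_left hw
    have hxu := D.G.th_left hu
    have dj : rho β.flip B' w x ⊓ rho β.flip B' u x = ⊥ := by
      by_contra hh
      obtain ⟨⟨z, hz⟩, z0⟩ := AddSubgroup.ne_bot_iff_exists_ne_zero.1 hh
      have z0 : z ≠ 0 := fun c => z0 (Subtype.ext c)
      exact hne ((D.om_eq D' h3 hx h0 hxw z0 hz.1).symm.trans (D.om_eq D' h3 hx h0' hxu z0 hz.2))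
    have := Nat.card_le_card_of_injective
      (fun z : rho β.flip B' w x × rho β.flip B' u x => (⟨z.1.1 + z.2.1, mem_perp_ln.2
        ⟨by rw [map_add, show β x z.1.1 = 0 from z.1.2 x (D'.G.self_mem_om hxw),
          show β x z.2.1 = 0 from z.2.2 x m.1, add_zero],
         by rw [map_add, show β y' z.1.1 = 0 from z.1.2 y' hy',
          show β y' z.2.1 = 0 from z.2.2 y' m.2, add_zero]⟩⟩ : perp β (ln x y')))
      (by
        rintro ⟨z₁, z₂⟩ ⟨z₃, z₄⟩ c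
        have c : z₁.1 + z₂.1 = z₃.1 + z₄.1 := congrArg Subtype.val c
        have c' : z₁.1 - z₃.1 = z₄.1 - z₂.1 := by rw [sub_eq_sub_iff_add_eq_add, c, add_comm]
        have : z₁.1 - z₃.1 ∈ rho β.flip B' w x ⊓ rho β.flip B' u x :=
          AddSubgroup.mem_inf.2 ⟨sub_mem z₁.2 z₃.2, c' ▸ sub_mem z₄.2 z₂.2⟩
        rw [dj, AddSubgroup.mem_bot] at this
        exact Prod.ext (Subtype.ext (sub_eq_zero.1 this))
          (Subtype.ext (sub_eq_zero.1 (c'.symm.trans this)).symm))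
    rw [Nat.card_prod, D'.card_rho h0 hx hxw, D'.card_rho h0' hx hxu,
      Q.card_perp D.hn (Q.card_ln hx a b), ← pow_add, Nat.pow_le_pow_iff_right one_lt_two] at this
    omega
  have t3 : ∀ {x y N}, Bl x y N → Bl y x N := by
    intro x y N hN
    obtain ⟨w, h0, hw, rfl⟩ := id hN
    obtain ⟨a, b, c⟩ := D.G.th_ind Q hw h0
    obtain ⟨N', hN'⟩ := ex y x b a c.symm
    rw [AddSubgroup.eq_of_le_of_card_ge (H := om β.flip B' w x) (K := N') (fun v hv => ?_)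
      (by rw [cd hN, cd hN'])]
    · exact hN'
    by_cases hl : v ∈ ln x y
    · exact ln_le (mem hN').2 (mem hN').1 hl
    obtain ⟨g, e1, e2, e3⟩ := D.P.rel12 D.T (⟨a, b, c, hl⟩ : Ind x y v)
    have := (D.G.smul_mem_th D.P g).2 hw
    rw [e1, e2] at this
    rw [uq hN' ⟨g • w, smul_ne h0, this, rfl⟩, ← e1, ← e3]
    exact (D'.G.smul_mem_om D'.P g).2 hv
  have t4 : ∀ {x y a b N}, Bl x y N → a ∈ N → b ∈ N → a ≠ 0 → b ≠ 0 → b ≠ a → Bl a b N := by
    intro x y a b N hN ha hb a0 b0 hba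
    by_cases h : a = x
    · exact t2 (h ▸ hN) hb b0 hba
    · exact t2 (t3 (t2 hN ha a0 h)) hb b0 hba
  obtain ⟨a, ha⟩ := D.exists_ne_zero
  obtain ⟨b, hb, hba⟩ := D.exists_ind ha
  obtain ⟨N, hN⟩ := ex a b ha hb hba
  obtain ⟨x, hx⟩ := exists_notMem (M := N) (by
    rw [cd hN, D.hn]; exact Nat.pow_lt_pow_right one_lt_two (by omega))
  have x0 : x ≠ 0 := fun c => hx (c ▸ zero_mem _)
  choose! F hF using fun y (hy : y ∈ (N : Set V) \ {0}) => ex x y x0 hy.2 fun c => hx (c ▸ hy.1)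
  set s := ((N : Set V) \ {0}).toFinite.toFinset with hs
  have ms : ∀ y ∈ s, y ∈ (N : Set V) \ {0} := fun y hy => (Set.Finite.mem_toFinset _).1 hy
  set t : V → Finset V := fun y => ((F y : Set V) \ ln x x).toFinite.toFinset with ht
  have := card_biUnion (s := s) (t := t) fun y₁ h₁ y₂ h₂ hne => by
    rw [Function.onFun, disjoint_left]
    intro v hv₁ hv₂
    rw [ht, Set.Finite.mem_toFinset, Set.mem_sdiff, SetLike.mem_coe, SetLike.mem_coe,
      Q.mem_ln_self, not_or] at hv₁ hv₂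
    have b₁ := hF y₁ (ms _ h₁)
    have b₂ := hF y₂ (ms _ h₂)
    have e1 := uq (t2 b₁ hv₁.1 hv₁.2.1 hv₁.2.2) (t2 b₂ hv₂.1 hv₂.2.1 hv₂.2.2)
    have e2 := uq (t4 b₁ (mem b₁).2 (e1 ▸ (mem b₂).2) (ms _ h₁).2 (ms _ h₂).2 hne.symm)
      (t4 hN (ms _ h₁).1 (ms _ h₂).1 (ms _ h₁).2 (ms _ h₂).2 hne.symm)
    exact hx (e2 ▸ (mem b₁).1)
  rw [sum_congr rfl (g := fun _ => 2 ^ (e + 2) - 2 ^ 1) fun y hy => by
    have b₁ := hF y (ms _ hy)
    rw [ht, ← Set.ncard_eq_toFinset_card, ncard_diff (ln_le (mem b₁).1 (mem b₁).1), cd b₁,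
      Q.card_ln_self x0], sum_const, hs, ← Set.ncard_eq_toFinset_card, ncard_diff_zero, cd hN,
    smul_eq_mul] at this
  have h1 := card_le_univ (s.biUnion t)
  rw [this, ← Nat.card_eq_fintype_card, D.hn, hn, show 2 * e + 3 = e + e + 3 by ring, pow_add,
    pow_add, pow_add] at h1
  have h2 : 2 ^ 3 ≤ 2 ^ e := Nat.pow_le_pow_right two_pos h3
  generalize 2 ^ e = A at *
  zify [show 1 ≤ A * 2 ^ 2 by omega, show 2 ^ 1 ≤ A * 2 ^ 2 by omega] at h1 h2
  nlinarith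

end Side

theorem Side.false_of_le (D : Side H β n B e) (D' : Side H β.flip n B' e') (ho : Odd n)
    (h5 : 5 ≤ n) (h : n ≤ 3 * e) (h3 : e + 3 ≤ n) (he : e ≤ e') : False := by
  obtain ⟨x, hx⟩ := D.exists_ne_zero
  obtain ⟨y, hy, hyx⟩ := D.exists_ind hx
  obtain ⟨w, hw, h0⟩ := D.G.exists_th hx hy hyx
  obtain rfl := (D.dich D' (by omega) he hw h0).2
  have := AddSubgroup.card_le_of_le (D.rho_le D' h3 hx h0 (D.G.th_left hw))
  rw [D.card_rho hx h0 (D.G.th_left hw), D'.card_om h0 hx (D.G.th_left hw),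
    Nat.pow_le_pow_iff_right one_lt_two] at this
  have h3 : 3 ≤ e := by obtain ⟨k, rfl⟩ := ho; omega
  exact D.false_of_dim D' h3 (D.dim_eq D' h3 h (by omega))

theorem Side.hasTv (D : Side H β n B e) (faith : ∀ h : H, (∀ v : V, h • v = v) → h = 1)
    (ho : Odd n) (h5 : 5 ≤ n) (h3 : ¬ e + 3 ≤ n) : HasTv H β := by
  refine D.P.perin D.T faith D.hn ho h5 fun x y c c' h h' => ?_
  have : ln x y = wp β B x y := AddSubgroup.eq_of_le_of_card_ge
    (ln_le (fun u hu => D.G.th_left hu) fun u hu => D.G.th_right hu) (by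
      rw [D.card_wp h.1 h.2.1 h.2.2.1, D.P.toPerf.card_ln h.1 h.2.1 h.2.2.1]
      exact Nat.pow_le_pow_right two_pos (by omega))
  have key : ∀ {c}, Ind x y c → B x y c := fun {c} hc =>
    not_not.1 fun a => hc.2.2.2 (this ▸ (D.G.mem_wp D.P h.1 h.2.1 h.2.2.1).2 a)
  exact (D.G.rel (key h)).1 (key h')

/-- the main theorem -/
theorem Pair.hasTv (P : Pair H β) (T : Two H V) (faith : ∀ h : H, (∀ v : V, h • v = v) → h = 1)
    (hn : Nat.card V = 2 ^ n) (ho : Odd n) (h5 : 5 ≤ n) (C : Subgroup H)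
    (hC : ∀ a ∈ C, ∀ b ∈ C, a * b = b * a)
    (ht : ∀ x x' : V, x ≠ 0 → x' ≠ 0 → ∃ k ∈ C, k • x = x') : HasTv H β := by
  obtain ⟨B, e, D⟩ := P.exists_side T hn (by omega)
  obtain ⟨B', e', D'⟩ := P.flip.exists_side (P.two_dual T) D.hn' (by omega)
  by_cases h3 : e + 3 ≤ n
  swap
  · exact D.hasTv faith ho h5 h3
  by_cases h3' : e' + 3 ≤ n
  swap
  · refine P.hasTv_of_flip (D'.hasTv (fun h hh => faith h fun v => ?_) ho h5 h3')
    refine P.toPerf.add_eq_zero.1 (P.sepL _ fun u => ?_)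
    rw [map_add, AddMonoidHom.add_apply, P.inv_left (hh u), z2_add]
  rcases le_total e e' with he | he
  · exact (D.false_of_le D' ho h5 (D.le_three C hC ht) h3 he).elim
  · exact (D'.false_of_le (β := β.flip) D ho h5
      (D'.le_three C hC fun _ _ a b => P.trans_dual C ht a b) h3' he).elim

/-- small dimensions -/
theorem Pair.hasTv_small (P : Pair H β) (T : Two H V) (hn : Nat.card V = 2 ^ n)
    (h : n = 2 ∨ n = 3) : HasTv H β := by
  have Q := P.toPerf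
  have lt : ∀ {i}, i < n → 2 ^ i < Nat.card V := fun h => hn ▸ Nat.pow_lt_pow_right one_lt_two h
  have key : ∀ {g : H} {M : AddSubgroup V} {v : V}, Nat.card M = 2 ^ (n - 1) → M ≤ fix V g →
      g • v ≠ v → HasTv H β := by
    intro g M v hM hle hv
    have cp := Q.card_perp hn hM
    rw [show n - (n - 1) = 1 by omega] at cp
    have : Nontrivial (perp β M) := Finite.one_lt_card_iff_nontrivial.1 (by omega)
    obtain ⟨⟨w, hw⟩, w0⟩ := exists_ne (0 : perp β M)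
    have w0 : w ≠ 0 := fun e => w0 (Subtype.ext e)
    have e2 : ln w w = perp β M := AddSubgroup.eq_of_le_of_card_ge (ln_le hw hw)
      (by rw [cp, Q.flip.card_ln_self w0])
    refine Q.hasTv w0 (fun u hu => hle ?_) hv
    rw [← Q.perp_perp M, ← e2]
    exact mem_perp_ln.2 ⟨hu, hu⟩
  obtain ⟨a, ha⟩ := exists_notMem (M := (⊥ : AddSubgroup V)) (by simpa using lt (i := 0) (by omega))
  rw [AddSubgroup.mem_bot] at ha
  obtain ⟨b, hb⟩ := exists_notMem (M := ln a a) (Q.card_ln_self ha ▸ lt (by omega))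
  rw [Q.mem_ln_self, not_or] at hb
  rcases h with rfl | rfl
  · obtain ⟨g, e1, e2⟩ := T.t2 a b (a + b) ha hb.1 hb.2
      (fun e => hb.2 (Q.add_eq_zero.1 e).symm) (by simpa using hb.1)
    exact key (Q.card_ln_self ha) (ln_le e1 e1) (v := b) (by rw [e2]; simpa using ha)
  · have cl := Q.card_ln ha hb.1 hb.2
    obtain ⟨c, hc⟩ := exists_notMem (M := ln a b) (cl ▸ lt (by omega))
    obtain ⟨g, e1, e2, e3⟩ := P.sh3 T (⟨ha, hb.1, hb.2, hc⟩ : Ind a b c) (left_mem_ln a b)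
    exact key cl (ln_le e1 e2) (v := c) (by rw [e3]; simpa using ha)

omit [Finite H] in
/-- all transvections are present -/
theorem Pair.all_tv (P : Pair H β) (T : Two H V) (h : HasTv H β) {c : V} {w : W} (hc : c ≠ 0)
    (hw : w ≠ 0) (hcw : β c w = 0) :
    ∃ g : H, (∀ v, β v w = 0 → g • v = v) ∧ ∀ v, β v w = 1 → g • v = v + c := by
  obtain ⟨g, c', w', hc', hw', hcw', h0, h1⟩ := h
  obtain ⟨k, rfl⟩ := T.t1 c' c hc' hc
  obtain ⟨m, e1, rfl⟩ := P.flagT T hc (smul_ne (h := k) hw') hw (by rw [P.inv, hcw', hcw])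
  refine ⟨m * k * g * (m * k)⁻¹, fun v hv => ?_, fun v hv => ?_⟩
  · rw [mul_smul, mul_smul, h0 _ (by rw [← P.inv (m * k), smul_inv_smul, mul_smul, hv]),
      smul_inv_smul]
  · rw [mul_smul, mul_smul, h1 _ (by rw [← P.inv (m * k), smul_inv_smul, mul_smul, hv]),
      smul_add, smul_inv_smul, mul_smul, e1]

end CL.CK
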