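import Mathlib
import Cfsg.Agent.BLK.CK.Main
import Cfsg.Agent.PERM.PrimeDeg
import Cfsg.Agent.CHEV.McL2
import Cfsg.Agent.S5947
import Cfsg.Agent.S5738

/-! Transitive linear groups over `F₂` with a prime number of non-zero vectors. -/

set_option autoImplicit false

open MulAction Module

namespace CL.CK

variable {V : Type*} [AddCommGroup V] [Module (ZMod 2) V]

/-- the dual space, with the contragredient action -/
def Dl (_ : Subgroup (V ≃ₗ[ZMod 2] V)) : Type _ := Module.Dual (ZMod 2) V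

variable (H : Subgroup (V ≃ₗ[ZMod 2] V))

instance : AddCommGroup (Dl H) := inferInstanceAs (AddCommGroup (Module.Dual (ZMod 2) V))

/-- the underlying functional -/
def Dl.val {H : Subgroup (V ≃ₗ[ZMod 2] V)} (φ : Dl H) : Module.Dual (ZMod 2) V := φ

instance : DistribMulAction H (Dl H) where
  smul h φ := (φ.val ∘ₗ ((h⁻¹ : H) : V ≃ₗ[ZMod 2] V).toLinearMap : Module.Dual (ZMod 2) V)
  one_smul φ := by
    apply LinearMap.ext
    intro v
    rfl
  mul_smul g h φ := by
    apply LinearMap.ext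
    intro v
    change φ.val ((((g * h)⁻¹ : H) : V ≃ₗ[ZMod 2] V) v) =
      φ.val (((h⁻¹ : H) : V ≃ₗ[ZMod 2] V) (((g⁻¹ : H) : V ≃ₗ[ZMod 2] V) v))
    rw [mul_inv_rev]
    rfl
  smul_zero h := by
    apply LinearMap.ext
    intro v
    rfl
  smul_add h φ ψ := by
    apply LinearMap.ext
    intro v
    rfl

theorem Dl.smul_val (h : H) (φ : Dl H) (v : V) : (h • φ).val v = φ.val (h⁻¹ • v) := rfl

/-- evaluation -/
def ev : V →+ Dl H →+ ZMod 2 where
  toFun v :=
    { toFun := fun φ => φ.val v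
      map_zero' := rfl
      map_add' := fun _ _ => rfl }
  map_zero' := by ext φ; exact map_zero φ.val
  map_add' a b := by ext φ; exact map_add φ.val a b

theorem ev_apply (v : V) (φ : Dl H) : ev H v φ = φ.val v := rfl

theorem pair_ev : Pair H (ev H) where
  sepL v h := (Module.forall_dual_apply_eq_zero_iff (ZMod 2) v).1 fun φ => h φ
  sepR φ h := LinearMap.ext fun v => h v
  inv h v φ := by rw [ev_apply, ev_apply, Dl.smul_val, inv_smul_smul]

instance [Finite V] : Finite (Dl H) :=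
  show Finite (Module.Dual (ZMod 2) V) from
    Finite.of_injective (fun φ : Module.Dual (ZMod 2) V => (φ : V → ZMod 2)) DFunLike.coe_injective

instance [Finite V] : Finite (V ≃ₗ[ZMod 2] V) :=
  Finite.of_injective (fun φ : V ≃ₗ[ZMod 2] V => (φ : V → V)) DFunLike.coe_injective

theorem eq_top_of_hasTv [Finite V] [Fintype V] [Fintype (Dl H)] (T : Two H V)
    (h : HasTv H (ev H)) : H = ⊤ := by
  rw [eq_top_iff]
  intro f _
  refine CL.McL.mem_of_det_eq_one (fun φ x hx => ?_) ?_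
  · by_cases h0 : x = 0 ∨ φ = 0
    · have : LinearEquiv.transvection hx = 1 := by
        ext v
        rcases h0 with h0 | h0 <;> simp [h0]
      rw [this]
      exact H.one_mem
    · push Not at h0
      obtain ⟨g, h1, h2⟩ := (pair_ev H).all_tv T h (c := x) (w := (φ : Dl H)) h0.1 h0.2 hx
      have : LinearEquiv.transvection hx = (g : V ≃ₗ[ZMod 2] V) := by
        ext v
        rw [LinearEquiv.transvection.apply]
        rcases z2 (φ v) with hv | hv
        · rw [hv, zero_smul, add_zero]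
          exact (h1 v hv).symm
        · rw [hv, one_smul]
          exact (h2 v hv).symm
      rw [this]
      exact g.2
  · exact z2_ne.1 (LinearEquiv.isUnit_det' f).ne_zero

/-- the non-zero vectors -/
def nz : SubMulAction H V := ⟨{v | v ≠ 0}, fun c _ hx => (smul_ne_zero_iff_ne c).2 hx⟩

theorem card_nz [Finite V] {n : ℕ} (hn : finrank (ZMod 2) V = n) :
    Nat.card (nz H) = 2 ^ n - 1 := by
  have h1 : Nat.card V = 2 ^ n := by
    rw [Module.natCard_eq_pow_finrank (K := ZMod 2), hn, Nat.card_zmod]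
  have h2 : Nat.card (nz H) = Nat.card {v : V // ¬ v = 0} := rfl
  classical
  have := Fintype.ofFinite V
  rw [h2, Nat.card_eq_fintype_card, Fintype.card_subtype_compl, ← h1, Nat.card_eq_fintype_card]
  simp

instance : FaithfulSMul H (nz H) where
  eq_of_smul_eq_smul {a b} h := by
    apply Subtype.ext
    ext v
    by_cases hv : v = 0
    · simp [hv]
    · exact congrArg Subtype.val (h ⟨v, hv⟩)

/-- the order of the normaliser of a subgroup of order `2 ^ n - 1` -/
theorem card_normalizer [Finite V] {n : ℕ} (hn : finrank (ZMod 2) V = n) (h2 : 2 ≤ n) (h6 : n ≠ 6)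
    (C : Subgroup (V ≃ₗ[ZMod 2] V)) (hC : IsMulCommutative C) (hc : Nat.card C = 2 ^ n - 1) :
    Nat.card (Subgroup.normalizer (C : Set (V ≃ₗ[ZMod 2] V))) = n * (2 ^ n - 1) := by
  classical
  have hn0 : n ≠ 0 := by omega
  have : Fintype (GaloisField 2 n) := Fintype.ofFinite _
  have hK : finrank (ZMod 2) (GaloisField 2 n) = n := GaloisField.finrank 2 hn0
  have hcK : Fintype.card (GaloisField 2 n) = 2 ^ n := by
    rw [← Nat.card_eq_fintype_card, GaloisField.card 2 n hn0]
  let e : V ≃ₗ[ZMod 2] GaloisField 2 n := LinearEquiv.ofFinrankEq _ _ (hn.trans hK.symm)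
  let Φ : (V ≃ₗ[ZMod 2] V) ≃* (Module.End (ZMod 2) (GaloisField 2 n))ˣ :=
    (LinearMap.GeneralLinearGroup.generalLinearEquiv (ZMod 2) V).symm.trans
      (Units.mapEquiv e.conjRingEquiv.toMulEquiv)
  have hU : IsMulCommutative (C.map Φ.toMonoidHom) := Subgroup.map_isMulCommutative C _
  have hcU : Nat.card (C.map Φ.toMonoidHom) = Fintype.card (GaloisField 2 n) - 1 := by
    rw [Subgroup.card_map_of_injective Φ.injective, hc, hcK]
  obtain ⟨g, hg⟩ := Cfsg.Agent.S5947.result (F := ZMod 2) n h2 hK (fun h => h6 h.1)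
    (by
      rintro ⟨-, -, a, ha⟩
      rw [ZMod.card] at ha
      rcases a with _ | _ | a
      · omega
      · omega
      · rw [pow_succ, pow_succ] at ha; omega) (C.map Φ.toMonoidHom) hU hcU
  have h3 := Cfsg.Agent.S5738.result (F := ZMod 2) n h2 hK
  rw [← hg, hcK, Subgroup.map_map] at h3
  rw [← h3]
  have h4 : (MulAut.conj g).toMonoidHom.comp Φ.toMonoidHom =
      (Φ.trans (MulAut.conj g)).toMonoidHom := rfl
  rw [h4, ← Subgroup.map_equiv_normalizer_eq,
    Subgroup.card_map_of_injective (Φ.trans (MulAut.conj g)).injective]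

theorem mersenne_fwd [Finite V] {n : ℕ} (hn : finrank (ZMod 2) V = n) (hp : (2 ^ n - 1).Prime)
    (ht : ∀ v w : V, v ≠ 0 → w ≠ 0 → ∃ h ∈ H, h v = w) :
    H = ⊤ ∨ ∃ C : Subgroup (V ≃ₗ[ZMod 2] V), C ≤ H ∧ (C.subgroupOf H).Normal ∧
      Nat.card C = 2 ^ n - 1 := by
  classical
  have := Fintype.ofFinite V
  have := Fintype.ofFinite (Dl H)
  have := Fintype.ofFinite (nz H)
  have : Fact (2 ^ n - 1).Prime := ⟨hp⟩
  have hcV : Nat.card V = 2 ^ n := by
    rw [Module.natCard_eq_pow_finrank (K := ZMod 2), hn, Nat.card_zmod]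
  have hα : Fintype.card (nz H) = 2 ^ n - 1 := by rw [← Nat.card_eq_fintype_card, card_nz H hn]
  have : IsPretransitive H (nz H) := ⟨fun a b => by
    obtain ⟨h, hh, e⟩ := ht a b a.2 b.2
    exact ⟨⟨h, hh⟩, Subtype.ext e⟩⟩
  obtain ⟨a⟩ : Nonempty (nz H) := Fintype.card_pos_iff.1 (hα ▸ hp.pos)
  obtain ⟨C, -, -, ho⟩ := CL.PermMod.exists_coord (G := H) hα (default : Sylow (2 ^ n - 1) H) a
  by_cases hA : C.Affine
  · right
    have hN : (Subgroup.zpowers C.σ).Normal := by
      refine ⟨fun x hx g => ?_⟩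
      obtain ⟨k, rfl⟩ := Subgroup.mem_zpowers_iff.1 hx
      rw [← conj_zpow]
      refine Subgroup.zpow_mem _ ?_ k
      obtain ⟨a, b, hab⟩ := hA g
      have : g * C.σ * g⁻¹ = C.σ ^ a.val := by
        refine eq_of_smul_eq_smul (α := nz H) fun y => C.e.injective ?_
        rw [C.he_pow, mul_smul, mul_smul, hab, C.he, ZMod.natCast_zmod_val, mul_add, mul_one,
          add_right_comm, ← hab, smul_inv_smul]
      rw [this]
      exact Subgroup.npow_mem_zpowers _ _
    refine ⟨(Subgroup.zpowers C.σ).map H.subtype, Subgroup.map_subtype_le _, ?_, ?_⟩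
    · rw [Subgroup.subgroupOf, Subgroup.comap_map_eq_self_of_injective H.subtype_injective]
      exact hN
    · rw [Subgroup.card_map_of_injective H.subtype_injective, Nat.card_zpowers, ho]
  · left
    have h2 := C.two_transitive hA
    have T : Two H V := by
      refine ⟨fun x x' hx hx' => ?_, fun x y y' hx hy hyx hy' hyx' => ?_⟩
      · obtain ⟨h, hh, e⟩ := ht x x' hx hx'
        exact ⟨⟨h, hh⟩, e⟩
      · have h3 : ∀ a b c d : nz H, a ≠ b → c ≠ d → ∃ g : H, g • a = c ∧ g • b = d :=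
          fun _ _ _ _ => is_two_pretransitive_iff.1 h2
        obtain ⟨g, h1, h2⟩ := h3 ⟨x, hx⟩ ⟨y, hy⟩
          ⟨x, hx⟩ ⟨y', hy'⟩ (fun h => hyx (congrArg Subtype.val h).symm)
          (fun h => hyx' (congrArg Subtype.val h).symm)
        exact ⟨g, congrArg Subtype.val h1, congrArg Subtype.val h2⟩
    refine eq_top_of_hasTv H T ?_
    have hnp : n.Prime := (Nat.prime_of_pow_sub_one_prime (by
      rintro rfl
      exact Nat.not_prime_one hp) hp).2
    by_cases h23 : n = 2 ∨ n = 3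
    · exact (pair_ev H).hasTv_small T hcV h23
    · have h5 : 5 ≤ n := by
        have := hnp.two_le
        by_contra h
        have : n = 4 := by omega
        subst this
        norm_num at hnp
      refine (pair_ev H).hasTv T (fun h hh => Subtype.ext (LinearEquiv.ext hh)) hcV
        (hnp.odd_of_ne_two (by omega)) h5 (Subgroup.zpowers C.σ) ?_ ?_
      · rintro _ ⟨i, rfl⟩ _ ⟨j, rfl⟩
        exact (Commute.zpow_zpow_self _ i j).eq
      · intro x x' hx hx'
        refine ⟨C.σ ^ (C.e ⟨x', hx'⟩ - C.e ⟨x, hx⟩).val, Subgroup.npow_mem_zpowers _ _, ?_⟩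
        have : C.σ ^ (C.e ⟨x', hx'⟩ - C.e ⟨x, hx⟩).val • (⟨x, hx⟩ : nz H) = ⟨x', hx'⟩ := by
          apply C.e.injective
          rw [C.he_pow, ZMod.natCast_zmod_val, add_sub_cancel]
        exact congrArg Subtype.val this

theorem trans_of_dvd [Finite V] {n : ℕ} (hn : finrank (ZMod 2) V = n) (hp : (2 ^ n - 1).Prime)
    (hd : 2 ^ n - 1 ∣ Nat.card H) (v w : V) (hv : v ≠ 0) (hw : w ≠ 0) : ∃ h ∈ H, h v = w := by
  classical
  have := Fintype.ofFinite (nz H)
  have : Fact (2 ^ n - 1).Prime := ⟨hp⟩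
  have hα : Fintype.card (nz H) = 2 ^ n - 1 := by rw [← Nat.card_eq_fintype_card, card_nz H hn]
  obtain ⟨σ, hσ⟩ := exists_prime_orderOf_dvd_card' (2 ^ n - 1) hd
  obtain ⟨a, ha⟩ : ∃ a : nz H, σ • a ≠ a := by
    by_contra h
    push Not at h
    have : σ = 1 := eq_of_smul_eq_smul (α := nz H) fun a => by rw [h, one_smul]
    rw [this, orderOf_one] at hσ
    exact hp.one_lt.ne hσ
  obtain ⟨C, -, -⟩ := CL.PermMod.exists_coord_of_pelt hα σ (k := 1)
    (by rw [pow_one, ← hσ, pow_orderOf_eq_one]) ha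
  obtain ⟨g, hg⟩ := C.pretransitive.exists_smul_eq (⟨v, hv⟩ : nz H) ⟨w, hw⟩
  exact ⟨g, g.2, congrArg Subtype.val hg⟩

theorem mersenne [Finite V] (n : ℕ) (hn : finrank (ZMod 2) V = n) (hp : (2 ^ n - 1).Prime) :
    (∀ v w : V, v ≠ 0 → w ≠ 0 → ∃ h ∈ H, h v = w) ↔
      ((IsCyclic H ∧ Nat.card H = 2 ^ n - 1) ∨
       (Nat.card H = n * (2 ^ n - 1) ∧ ∃ C : Subgroup (V ≃ₗ[ZMod 2] V), C ≤ H ∧
          (C.subgroupOf H).Normal ∧ IsCyclic C ∧ Nat.card C = 2 ^ n - 1) ∨ H = ⊤) := by
  have : Fact (2 ^ n - 1).Prime := ⟨hp⟩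
  have hnp : n.Prime := (Nat.prime_of_pow_sub_one_prime (by
    rintro rfl
    exact Nat.not_prime_one hp) hp).2
  constructor
  · intro ht
    rcases mersenne_fwd H hn hp ht with h | ⟨C, hCH, hN, hc⟩
    · exact Or.inr (Or.inr h)
    · have hcyc : IsCyclic C := isCyclic_of_prime_card hc
      have h1 := card_normalizer hn hnp.two_le (by rintro rfl; norm_num at hnp) C
        inferInstance hc
      have h2 : Nat.card H ∣ n * (2 ^ n - 1) :=
        h1 ▸ Subgroup.card_dvd_of_le ((Subgroup.normal_subgroupOf_iff_le_normalizer hCH).1 hN)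
      obtain ⟨m, hm⟩ : 2 ^ n - 1 ∣ Nat.card H := hc ▸ Subgroup.card_dvd_of_le hCH
      rw [hm, mul_comm n] at h2
      rcases (Nat.dvd_prime hnp).1 (Nat.dvd_of_mul_dvd_mul_left hp.pos h2) with rfl | rfl
      · rw [mul_one] at hm
        exact Or.inl ⟨isCyclic_of_prime_card hm, hm⟩
      · exact Or.inr (Or.inl ⟨by rw [hm, mul_comm], C, hCH, hN, hcyc, hc⟩)
  · rintro (⟨-, h⟩ | ⟨h, -⟩ | rfl) v w hv hw
    · exact trans_of_dvd H hn hp (h ▸ dvd_rfl) v w hv hw
    · exact trans_of_dvd H hn hp (h ▸ dvd_mul_left _ _) v w hv hw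
    · obtain ⟨g, hg⟩ := Submodule.exists_linearEquiv_restrict_eq
        ((LinearEquiv.toSpanNonzeroSingleton (ZMod 2) V v hv).symm ≪≫ₗ
          LinearEquiv.toSpanNonzeroSingleton (ZMod 2) V w hw)
      refine ⟨g, Subgroup.mem_top _, ?_⟩
      have h1 := hg (LinearEquiv.toSpanNonzeroSingleton (ZMod 2) V v hv 1)
      rw [LinearEquiv.trans_apply, LinearEquiv.symm_apply_apply] at h1
      simpa using h1.symm

end CL.CK
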